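import Mathlib
set_option linter.all false

-- part: H306/Kon/Wr
section
/-!
# The wreath product `2 wr Sym(P)` (helper306)

`Wr P`: pairs `(v, s)`, `v : P → ZMod 2`, `s : Perm P`, acting on `P × ZMod 2` by `(p, b) ↦ (s p, b + v (s p))`.
-/

set_option autoImplicit false

namespace Cfsg.Agent.H306.Kon

open Equiv

@[simp] theorem ia {P : Type*} (s : Perm P) (p : P) : s⁻¹ (s p) = p := s.symm_apply_apply p
@[simp] theorem ai {P : Type*} (s : Perm P) (p : P) : s (s⁻¹ p) = p := s.apply_symm_apply p

/-- `2 wr Sym(P)` -/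
@[ext]
structure Wr (P : Type*) where
  /-- the vector -/
  v : P → ZMod 2
  /-- the permutation -/
  s : Perm P

namespace Wr

variable {P : Type*}

instance : Mul (Wr P) := ⟨fun x y => ⟨fun p => x.v p + y.v (x.s⁻¹ p), x.s * y.s⟩⟩
instance : One (Wr P) := ⟨⟨0, 1⟩⟩
instance : Inv (Wr P) := ⟨fun x => ⟨fun p => x.v (x.s p), x.s⁻¹⟩⟩

@[simp] theorem mul_v (x y : Wr P) (p : P) : (x * y).v p = x.v p + y.v (x.s⁻¹ p) := rfl
@[simp] theorem mul_s (x y : Wr P) : (x * y).s = x.s * y.s := rfl
@[simp] theorem one_v (p : P) : (1 : Wr P).v p = 0 := rfl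
@[simp] theorem one_s : (1 : Wr P).s = 1 := rfl
@[simp] theorem inv_v (x : Wr P) (p : P) : (x⁻¹).v p = x.v (x.s p) := rfl
@[simp] theorem inv_s (x : Wr P) : (x⁻¹).s = x.s⁻¹ := rfl

theorem add_self (a : ZMod 2) : a + a = 0 := CharTwo.add_self_eq_zero a

instance : Group (Wr P) where
  mul_assoc x y z := by
    ext p
    · simp only [mul_v, mul_s, mul_inv_rev, Perm.mul_apply]; ring
    · simp only [mul_s, mul_assoc]
  one_mul x := by
    ext p
    · simp
    · simp
  mul_one x := by
    ext p
    · simp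
    · simp
  inv_mul_cancel x := by
    ext p
    · simp [add_self]
    · simp

/-- the projection -/
def pr : Wr P →* Perm P where
  toFun x := x.s
  map_one' := rfl
  map_mul' _ _ := rfl

@[simp] theorem pr_apply (x : Wr P) : pr x = x.s := rfl

/-- the section -/
def sec : Perm P →* Wr P where
  toFun s := ⟨0, s⟩
  map_one' := rfl
  map_mul' x y := by
    ext p
    · simp
    · simp

@[simp] theorem sec_v (s : Perm P) (p : P) : (sec s).v p = 0 := rfl
@[simp] theorem sec_s (s : Perm P) : (sec s).s = s := rfl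

/-- the vectors -/
def vec (v : P → ZMod 2) : Wr P := ⟨v, 1⟩

@[simp] theorem vec_v (v : P → ZMod 2) : (vec v).v = v := rfl
@[simp] theorem vec_s (v : P → ZMod 2) : (vec v).s = 1 := rfl

theorem vec_mul (v w : P → ZMod 2) : vec v * vec w = vec (v + w) := by
  ext p
  · simp
  · simp

theorem vec_mul_self (v : P → ZMod 2) : vec v * vec v = 1 := by
  ext p
  · simp [add_self]
  · simp

theorem vec_inv (v : P → ZMod 2) : (vec v)⁻¹ = vec v := by
  rw [inv_eq_iff_mul_eq_one]; exact vec_mul_self v

theorem vec_injective : Function.Injective (vec : (P → ZMod 2) → Wr P) := fun _ _ h => congrArg Wr.v h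

theorem vec_zero : vec (0 : P → ZMod 2) = 1 := rfl

theorem conj_vec (x : Wr P) (v : P → ZMod 2) : x * vec v * x⁻¹ = vec (fun p => v (x.s⁻¹ p)) := by
  ext p
  · simp only [mul_v, vec_v, mul_s, vec_s, mul_one, inv_v, ai]
    have := add_self (x.v p)
    calc x.v p + v (x.s⁻¹ p) + x.v p = (x.v p + x.v p) + v (x.s⁻¹ p) := by ring
      _ = _ := by rw [this, zero_add]
  · simp

theorem eq_vec {x : Wr P} (h : x.s = 1) : x = vec x.v := by
  ext p
  · rfl
  · simp [h]

/-- the central involution -/
def z (P : Type*) : Wr P := vec (fun _ => 1)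

theorem z_central (x : Wr P) : x * z P = z P * x := by
  have := conj_vec x (fun _ => 1)
  change x * z P * x⁻¹ = z P at this
  rwa [mul_inv_eq_iff_eq_mul] at this

theorem z_ne [Nonempty P] : z P ≠ 1 := by
  intro h
  obtain ⟨p⟩ := ‹Nonempty P›
  have : (z P).v p = 0 := by rw [h]; rfl
  have h1 : (1 : ZMod 2) = 0 := this
  exact absurd h1 (by decide)

theorem z_mul_self : z P * z P = 1 := vec_mul_self _

/-- the base group -/
def E (P : Type*) : Subgroup (Wr P) := pr.ker

theorem mem_E {x : Wr P} : x ∈ E P ↔ x.s = 1 := MonoidHom.mem_ker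

theorem vec_mem (v : P → ZMod 2) : vec v ∈ E P := rfl

theorem z_mem : z P ∈ E P := rfl

instance : (E P).Normal := inferInstanceAs (pr.ker).Normal

theorem E_comm : ∀ x ∈ E P, ∀ y ∈ E P, x * y = y * x := by
  intro x hx y hy
  rw [eq_vec (mem_E.1 hx), eq_vec (mem_E.1 hy), vec_mul, vec_mul, add_comm]

theorem E_sq : ∀ x ∈ E P, x * x = 1 := by
  intro x hx
  rw [eq_vec (mem_E.1 hx), vec_mul_self]

/-- `Wr P` as a product -/
def equivProd : Wr P ≃ (P → ZMod 2) × Perm P where
  toFun x := (x.v, x.s)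
  invFun x := ⟨x.1, x.2⟩
  left_inv _ := rfl
  right_inv _ := rfl

instance [Finite P] : Finite (Wr P) := Finite.of_equiv _ equivProd.symm

theorem card [Fintype P] [DecidableEq P] : Nat.card (Wr P) = 2 ^ Fintype.card P * (Fintype.card P).factorial := by
  rw [Nat.card_congr equivProd, Nat.card_prod, Nat.card_eq_fintype_card, Nat.card_eq_fintype_card,
    Fintype.card_perm, Fintype.card_fun, ZMod.card]

/-- the vectors as the base group -/
def vecEquiv : (P → ZMod 2) ≃ E P where
  toFun v := ⟨vec v, vec_mem v⟩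
  invFun x := (x : Wr P).v
  left_inv _ := rfl
  right_inv x := Subtype.ext (eq_vec (mem_E.1 x.2)).symm

theorem card_E [Fintype P] [DecidableEq P] : Nat.card (E P) = 2 ^ Fintype.card P := by
  rw [← Nat.card_congr vecEquiv, Nat.card_eq_fintype_card, Fintype.card_fun, ZMod.card]

section act

/-- the action on `P × ZMod 2` -/
def act : Wr P →* Perm (P × ZMod 2) where
  toFun x :=
    { toFun := fun a => (x.s a.1, a.2 + x.v (x.s a.1))
      invFun := fun a => (x.s⁻¹ a.1, a.2 + x.v a.1)
      left_inv := by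
        rintro ⟨p, b⟩
        simp [add_assoc, add_self]
      right_inv := by
        rintro ⟨p, b⟩
        simp [add_assoc, add_self] }
  map_one' := by
    ext a <;> simp
  map_mul' x y := by
    ext a
    · simp
    · simp only [mul_s, Perm.mul_apply, mul_v, coe_fn_mk, mul_inv_rev, ia]
      ring

@[simp] theorem act_apply (x : Wr P) (p : P) (b : ZMod 2) : act x (p, b) = (x.s p, b + x.v (x.s p)) := rfl

theorem act_injective : Function.Injective (act : Wr P →* _) := by
  rw [injective_iff_map_eq_one]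
  intro x hx
  have h1 : ∀ p, x.s p = p ∧ x.v (x.s p) = 0 := by
    intro p
    have := DFunLike.congr_fun hx (p, 0)
    rw [act_apply, Perm.one_apply, zero_add] at this
    exact ⟨congrArg Prod.fst this, congrArg Prod.snd this⟩
  ext p
  · have h2 := (h1 p).2
    rw [(h1 p).1] at h2
    simpa using h2
  · simp [(h1 p).1]

/-- the permutations commuting with `act z` are in the range -/
theorem exists_act {g : Perm (P × ZMod 2)} (hg : g * act (z P) = act (z P) * g) : ∃ x, act x = g := by
  have h1 : ∀ p b, g (p, b + 1) = ((g (p, b)).1, (g (p, b)).2 + 1) := by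
    intro p b
    have := DFunLike.congr_fun hg (p, b)
    exact this
  have h2 : ∀ p b, g (p, b) = ((g (p, 0)).1, (g (p, 0)).2 + b) := by
    intro p b
    have hb : b = 0 ∨ b = 1 := by revert b; decide
    rcases hb with rfl | rfl
    · simp
    · have := h1 p 0
      rwa [zero_add] at this
  have hg' : g⁻¹ * act (z P) = act (z P) * g⁻¹ := by
    calc g⁻¹ * act (z P) = g⁻¹ * (act (z P) * g) * g⁻¹ := by group
      _ = g⁻¹ * (g * act (z P)) * g⁻¹ := by rw [hg]
      _ = _ := by group
  have h1' : ∀ p b, g⁻¹ (p, b + 1) = ((g⁻¹ (p, b)).1, (g⁻¹ (p, b)).2 + 1) := by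
    intro p b
    have := DFunLike.congr_fun hg' (p, b)
    exact this
  have h2' : ∀ p b, g⁻¹ (p, b) = ((g⁻¹ (p, 0)).1, (g⁻¹ (p, 0)).2 + b) := by
    intro p b
    have hb : b = 0 ∨ b = 1 := by revert b; decide
    rcases hb with rfl | rfl
    · simp
    · have := h1' p 0
      rwa [zero_add] at this
  let s : Perm P :=
    { toFun := fun p => (g (p, 0)).1
      invFun := fun p => (g⁻¹ (p, 0)).1
      left_inv := by
        intro p
        have h3 := h2' (g (p, 0)).1 (g (p, 0)).2
        have h4 : ((g (p, 0)).1, (g (p, 0)).2) = g (p, 0) := rfl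
        rw [h4, ia] at h3
        exact (congrArg Prod.fst h3).symm
      right_inv := by
        intro p
        have h3 := h2 (g⁻¹ (p, 0)).1 (g⁻¹ (p, 0)).2
        have h4 : ((g⁻¹ (p, 0)).1, (g⁻¹ (p, 0)).2) = g⁻¹ (p, 0) := rfl
        rw [h4, ai] at h3
        exact (congrArg Prod.fst h3).symm }
  refine ⟨⟨fun q => (g (s⁻¹ q, 0)).2, s⟩, ?_⟩
  apply Equiv.ext
  rintro ⟨p, b⟩
  rw [act_apply, h2 p b, add_comm]
  simp only [ia]
  rfl

end act

end Wr

end Cfsg.Agent.H306.Kon
end

-- part: H306/Kon/Alt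
section
/-!
# The centralizer in `A_{4n+r}` of an involution with `r` fixed points, `r = 2, 3` (helper306)
-/

set_option autoImplicit false

namespace Cfsg.Agent.H306.Kon

open Equiv Equiv.Perm Subgroup

section

variable {Ω : Type*} [Fintype Ω] [DecidableEq Ω]

theorem cycleType_of_order_two {σ : Perm Ω} (h : orderOf σ = 2) {k : ℕ} (hk : σ.support.card = 2 * k) :
    σ.cycleType = Multiset.replicate k 2 := by
  obtain ⟨m, hm⟩ := cycleType_prime_order (σ := σ) (by rw [h]; exact Nat.prime_two)
  rw [h] at hm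
  have h1 := sum_cycleType σ
  rw [hm, Multiset.sum_replicate, hk] at h1
  have h2 : m + 1 = k := by simp at h1; omega
  rw [hm, h2]

/-- two involutions with the same number of moved points are conjugate by a bijection -/
theorem exists_equiv_conj {Ω' : Type*} [Fintype Ω'] [DecidableEq Ω'] (e : Ω ≃ Ω') {σ : Perm Ω} {τ : Perm Ω'} {k : ℕ}
    (hσ : orderOf σ = 2) (hτ : orderOf τ = 2) (h1 : σ.support.card = 2 * k) (h2 : τ.support.card = 2 * k) :
    ∃ f : Ω ≃ Ω', ∀ x, f (σ x) = τ (f x) := by
  set τ' : Perm Ω := e.symm.permCongr τ with hτ'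
  have ho : orderOf τ' = 2 := by
    rw [hτ', ← hτ]
    exact (e.symm.permCongrHom : Perm Ω' ≃* Perm Ω).orderOf_eq τ
  have hs : τ'.support.card = 2 * k := by
    rw [← h2]
    refine (Finset.card_bij (fun a _ => e a) ?_ ?_ ?_)
    · intro a ha
      rw [mem_support] at ha ⊢
      intro h3
      apply ha
      rw [hτ', Equiv.permCongr_apply]
      simp [h3]
    · intro a _ b _ hab
      exact e.injective hab
    · intro b hb
      refine ⟨e.symm b, ?_, by simp⟩
      rw [mem_support] at hb ⊢
      intro h3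
      apply hb
      rw [hτ', Equiv.permCongr_apply] at h3
      simpa using h3
  have hc : IsConj σ τ' := by
    rw [isConj_iff_cycleType_eq, cycleType_of_order_two hσ h1, cycleType_of_order_two ho hs]
  obtain ⟨g, hg⟩ := isConj_iff.1 hc
  refine ⟨g.trans e, fun x => ?_⟩
  have h3 : g (σ x) = τ' (g x) := by rw [← hg]; simp
  rw [Equiv.trans_apply, h3, hτ', Equiv.permCongr_apply]
  simp

end

section

variable (n r : ℕ)

/-- the model -/
abbrev X := (Fin (2 * n) × ZMod 2) ⊕ Fin r

/-- the product of `Wr` and `Sym(r)` acting on the model -/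
def Ph : Wr (Fin (2 * n)) × Perm (Fin r) →* Perm (X n r) :=
  (sumCongrHom (Fin (2 * n) × ZMod 2) (Fin r)).comp (MonoidHom.prodMap Wr.act (MonoidHom.id _))

variable {n r}

@[simp] theorem Ph_inl (x : Wr (Fin (2 * n)) × Perm (Fin r)) (a : Fin (2 * n) × ZMod 2) :
    Ph n r x (Sum.inl a) = Sum.inl (Wr.act x.1 a) := rfl

@[simp] theorem Ph_inr (x : Wr (Fin (2 * n)) × Perm (Fin r)) (a : Fin r) :
    Ph n r x (Sum.inr a) = Sum.inr (x.2 a) := rfl

theorem Ph_injective : Function.Injective (Ph n r) := by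
  rw [injective_iff_map_eq_one]
  rintro ⟨x, τ⟩ h
  have h1 : x = 1 := by
    apply Wr.act_injective
    rw [map_one]
    apply Equiv.ext
    intro a
    have := DFunLike.congr_fun h (Sum.inl a)
    rw [Ph_inl, Perm.one_apply] at this
    exact Sum.inl_injective this
  have h2 : τ = 1 := by
    apply Equiv.ext
    intro a
    have := DFunLike.congr_fun h (Sum.inr a)
    rw [Ph_inr, Perm.one_apply] at this
    exact Sum.inr_injective this
  rw [h1, h2]; rfl

/-- the involution of the model -/
def al (n r : ℕ) : Perm (X n r) := Ph n r (Wr.z _, 1)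

theorem al_ne_inl (a : Fin (2 * n) × ZMod 2) : al n r (Sum.inl a) ≠ Sum.inl a := by
  intro h
  have h1 := Sum.inl_injective h
  have h2 := congrArg Prod.snd h1
  have h3 : a.2 + 1 = a.2 := h2
  generalize a.2 = b at h3
  revert b; decide

theorem al_inr (a : Fin r) : al n r (Sum.inr a) = Sum.inr a := rfl

theorem al_sq : al n r * al n r = 1 := by
  rw [al, ← map_mul]
  have : ((Wr.z (Fin (2 * n)), (1 : Perm (Fin r))) * (Wr.z (Fin (2 * n)), (1 : Perm (Fin r)))) = 1 := by
    rw [Prod.mk_mul_mk, Wr.z_mul_self, one_mul]; rfl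
  rw [this, map_one]

theorem orderOf_al (hn : 1 ≤ n) : orderOf (al n r) = 2 := by
  rw [orderOf_eq_prime_iff]
  refine ⟨by rw [pow_two, al_sq], fun h => ?_⟩
  apply al_ne_inl (n := n) (r := r) (⟨0, by omega⟩, 0)
  rw [h]; rfl

theorem card_support_al : (al n r).support.card = 2 * (2 * n) := by
  have h1 : (al n r).support = (Finset.univ : Finset (Fin (2 * n) × ZMod 2)).map ⟨Sum.inl, Sum.inl_injective⟩ := by
    ext a
    rw [mem_support, Finset.mem_map]
    constructor
    · intro h
      rcases a with a | a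
      · exact ⟨a, Finset.mem_univ _, rfl⟩
      · exact absurd (al_inr a) h
    · rintro ⟨a, -, rfl⟩
      exact al_ne_inl a
  rw [h1, Finset.card_map, Finset.card_univ, Fintype.card_prod, Fintype.card_fin, ZMod.card]
  ring

theorem mem_range_Ph {g : Perm (X n r)} (hg : g * al n r = al n r * g) : g ∈ (Ph n r).range := by
  have h1 : ∀ x, g (al n r x) = al n r (g x) := fun x => DFunLike.congr_fun hg x
  have h2 : Set.MapsTo g (Set.range Sum.inl) (Set.range Sum.inl) := by
    rintro _ ⟨a, rfl⟩
    rcases hb : g (Sum.inl a) with b | b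
    · exact ⟨b, rfl⟩
    · exfalso
      have h3 := h1 (Sum.inl a)
      rw [hb, al_inr, ← hb] at h3
      exact al_ne_inl a (g.injective h3)
  obtain ⟨⟨g1, g2⟩, hgg⟩ := mem_sumCongrHom_range_of_perm_mapsTo_inl h2
  have h3 : g1 * Wr.act (Wr.z _) = Wr.act (Wr.z _) * g1 := by
    apply Equiv.ext
    intro a
    have h4 := h1 (Sum.inl a)
    rw [← hgg] at h4
    exact Sum.inl_injective h4
  obtain ⟨x, hx⟩ := Wr.exists_act h3
  refine ⟨(x, g2), ?_⟩
  rw [← hgg, ← hx]
  rfl

theorem sign_Ph (x : Wr (Fin (2 * n)) × Perm (Fin r)) :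
    sign (Ph n r x) = sign (Wr.act x.1) * sign x.2 := sign_sumCongr _ _

end

/-- **The centralizer of `α` is `(2 wr Sym(2n) × Sym(r)) ∩ A`.** -/
theorem exists_rho {n r : ℕ} (hn : 1 ≤ n) (hr : r = 2 ∨ r = 3)
    (α : alternatingGroup (Fin (4 * n + r))) (hα : orderOf α = 2)
    (hα4 : (α : Perm (Fin (4 * n + r))).support.card = 4 * n) :
    ∃ ρ : centralizer ({α} : Set (alternatingGroup (Fin (4 * n + r)))) →* Wr (Fin (2 * n)),
      Function.Surjective ρ ∧ (Nat.card ρ.ker = 1 ∨ Nat.card ρ.ker = 3) ∧ (r = 2 → Nat.card ρ.ker = 1) ∧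
      ∀ h, ρ ⟨α, h⟩ = Wr.z _ := by
  have e : Fin (4 * n + r) ≃ X n r := Fintype.equivOfCardEq (by
    rw [Fintype.card_sum, Fintype.card_prod, Fintype.card_fin, Fintype.card_fin, Fintype.card_fin, ZMod.card]; ring)
  obtain ⟨f, hf⟩ := exists_equiv_conj e (σ := (α : Perm (Fin (4 * n + r)))) (τ := al n r) (k := 2 * n)
    (by rw [← hα]; exact Subgroup.orderOf_coe α) (orderOf_al hn) (by rw [hα4]; ring) card_support_al
  let F : Perm (Fin (4 * n + r)) ≃* Perm (X n r) := f.permCongrHom
  have hF : ∀ (g : Perm (Fin (4 * n + r))) x, F g (f x) = f (g x) := by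
    intro g x
    change f (g (f.symm (f x))) = _
    rw [f.symm_apply_apply]
  have hFα : F α = al n r := by
    apply Equiv.ext
    intro y
    obtain ⟨x, rfl⟩ := f.surjective y
    rw [hF, hf]
  have hFs : ∀ g, sign (F g) = sign g := fun g => sign_permCongr f g
  have hmem : ∀ c : centralizer ({α} : Set (alternatingGroup (Fin (4 * n + r)))),
      F ((c : alternatingGroup (Fin (4 * n + r))) : Perm (Fin (4 * n + r))) ∈ (Ph n r).range := by
    intro c
    apply mem_range_Ph
    have h1 := mem_centralizer_singleton_iff.1 c.2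
    have h2 : ((c : alternatingGroup (Fin (4 * n + r))) : Perm (Fin (4 * n + r))) * α = α * c :=
      congrArg Subtype.val h1
    rw [← hFα, ← map_mul, ← map_mul, h2]
  let G1 : centralizer ({α} : Set (alternatingGroup (Fin (4 * n + r)))) →* (Ph n r).range :=
    (F.toMonoidHom.comp ((alternatingGroup (Fin (4 * n + r))).subtype.comp
      (centralizer ({α} : Set (alternatingGroup (Fin (4 * n + r))))).subtype)).codRestrict (Ph n r).range hmem
  let ψ : (Ph n r).range ≃* Wr (Fin (2 * n)) × Perm (Fin r) := (MonoidHom.ofInjective Ph_injective).symm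
  let G2 : centralizer ({α} : Set (alternatingGroup (Fin (4 * n + r)))) →* Wr (Fin (2 * n)) × Perm (Fin r) :=
    ψ.toMonoidHom.comp G1
  have hG2 : ∀ c, Ph n r (G2 c) = F ((c : alternatingGroup (Fin (4 * n + r))) : Perm (Fin (4 * n + r))) := by
    intro c
    have := (MonoidHom.ofInjective (Ph_injective (n := n) (r := r))).apply_symm_apply (G1 c)
    exact congrArg Subtype.val this
  have hG2i : Function.Injective G2 := by
    intro c d h
    have h1 := hG2 c
    rw [h, hG2] at h1
    exact (Subtype.ext (Subtype.ext (F.injective h1))).symm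
  have hev : ∀ c, sign (Wr.act (G2 c).1) * sign (G2 c).2 = 1 := by
    intro c
    rw [← sign_Ph, hG2, hFs]
    exact mem_alternatingGroup.1 (c : alternatingGroup (Fin (4 * n + r))).2
  have hex : ∀ x : Wr (Fin (2 * n)) × Perm (Fin r), sign (Wr.act x.1) * sign x.2 = 1 → ∃ c, G2 c = x := by
    intro x hx
    have h1 : F.symm (Ph n r x) ∈ alternatingGroup (Fin (4 * n + r)) := by
      rw [mem_alternatingGroup, ← hFs, F.apply_symm_apply, sign_Ph, hx]
    have h2 : (⟨_, h1⟩ : alternatingGroup (Fin (4 * n + r))) ∈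
        centralizer ({α} : Set (alternatingGroup (Fin (4 * n + r)))) := by
      rw [mem_centralizer_singleton_iff]
      apply Subtype.ext
      apply F.injective
      change F (F.symm (Ph n r x) * α) = F (α * F.symm (Ph n r x))
      rw [map_mul, map_mul, F.apply_symm_apply, hFα, al, ← map_mul, ← map_mul]
      congr 1
      rcases x with ⟨x, τ⟩
      rw [Prod.mk_mul_mk, Prod.mk_mul_mk, Wr.z_central, mul_one, one_mul]
    refine ⟨⟨⟨_, h1⟩, h2⟩, ?_⟩
    apply Ph_injective
    rw [hG2]
    exact F.apply_symm_apply _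
  have hswap : ∃ τ : Perm (Fin r), sign τ = -1 := by
    rcases hr with rfl | rfl
    · exact ⟨swap 0 1, sign_swap (by decide)⟩
    · exact ⟨swap 0 1, sign_swap (by decide)⟩
  let ρ : centralizer ({α} : Set (alternatingGroup (Fin (4 * n + r)))) →* Wr (Fin (2 * n)) :=
    (MonoidHom.fst _ _).comp G2
  have hker : Nat.card ρ.ker = Nat.card (alternatingGroup (Fin r)) := by
    refine Nat.card_congr (Equiv.ofBijective (fun c => ⟨(G2 c).2, ?_⟩) ⟨?_, ?_⟩)
    · rw [mem_alternatingGroup]
      have h1 := hev c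
      have h2 : (G2 c).1 = 1 := c.2
      rw [h2, map_one, map_one, one_mul] at h1
      exact h1
    · intro c d h
      apply Subtype.ext
      apply hG2i
      have h1 : (G2 c).2 = (G2 d).2 := congrArg Subtype.val h
      have h2 : (G2 c).1 = 1 := c.2
      have h3 : (G2 d).1 = 1 := d.2
      exact Prod.ext (h2.trans h3.symm) h1
    · rintro ⟨τ, hτ⟩
      obtain ⟨c, hc⟩ := hex (1, τ) (by
        rw [map_one, map_one, one_mul]; exact mem_alternatingGroup.1 hτ)
      refine ⟨⟨c, ?_⟩, ?_⟩
      · change (G2 c).1 = 1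
        rw [hc]
      · apply Subtype.ext
        change (G2 c).2 = τ
        rw [hc]
  refine ⟨ρ, ?_, ?_, ?_, ?_⟩
  · intro x
    obtain ⟨τ, hτ⟩ : ∃ τ : Perm (Fin r), sign (Wr.act x) * sign τ = 1 := by
      rcases Int.units_eq_one_or (sign (Wr.act x)) with h | h
      · exact ⟨1, by rw [h, map_one, one_mul]⟩
      · obtain ⟨τ, hτ⟩ := hswap
        exact ⟨τ, by rw [h, hτ]; rfl⟩
    obtain ⟨c, hc⟩ := hex (x, τ) hτ
    exact ⟨c, congrArg Prod.fst hc⟩
  · rw [hker]
    rcases hr with rfl | rfl
    · left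
      rw [nat_card_alternatingGroup, Nat.card_fin]; rfl
    · right
      rw [nat_card_alternatingGroup, Nat.card_fin]; rfl
  · rintro rfl
    rw [hker, nat_card_alternatingGroup, Nat.card_fin]; rfl
  · intro h
    have h1 : G2 ⟨α, h⟩ = (Wr.z _, 1) := by
      apply Ph_injective
      rw [hG2]
      exact hFα
    change (G2 ⟨α, h⟩).1 = _
    rw [h1]

end Cfsg.Agent.H306.Kon
end
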